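/-
The relations between the networks of the letters of the explicit `Fi24`, checked by the kernel on the bit planes of the points.
-/
import Mathlib
import Cfsg.Agent.Lib.Compute.TC.Fi23a.Data
import Cfsg.Agent.Lib.Fischer.M24.E.Fam
import Cfsg.Agent.Lib.Fischer.M24.E.Words

set_option autoImplicit false
set_option Elab.async false

namespace Cfsg.Agent.Lib.Fischer.M24.Explicit

open Cfsg.Agent.Lib.Compute.BitNet Cfsg.Agent.Lib.Fischer.M24.Net Cfsg.Agent.Lib.Compute.ToddCoxeterCore
open Cfsg.Agent.Lib.Compute.TC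

/-- The check of a relator. -/
noncomputable def chkR (j : ℕ) : Bool := chkL NL 306938 19 (Fi23a.relsL.getD j []).reverse [] (List.range 19)

theorem rel_0 : allFrom chkR 5 0 = true := by decide +kernel

theorem rel_5 : allFrom chkR 5 5 = true := by decide +kernel

theorem rel_10 : allFrom chkR 6 10 = true := by decide +kernel

theorem rel_16 : allFrom chkR 5 16 = true := by decide +kernel

theorem rel_21 : allFrom chkR 5 21 = true := by decide +kernel

theorem rel_26 : allFrom chkR 5 26 = true := by decide +kernel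

theorem rel_31 : allFrom chkR 5 31 = true := by decide +kernel

theorem rel_36 : allFrom chkR 5 36 = true := by decide +kernel

theorem rel_41 : allFrom chkR 4 41 = true := by decide +kernel

theorem rel_47 : allFrom chkR 10 47 = true := by decide +kernel

theorem rel_short : ∀ j, j < 57 → j ≠ 45 → j ≠ 46 → chkR j = true := by
  intro j hj h45 h46
  by_cases h0 : j < 5
  · exact allFrom_spec rel_0 j (by omega) (by omega)
  by_cases h5 : j < 10
  · exact allFrom_spec rel_5 j (by omega) (by omega)
  by_cases h10 : j < 16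
  · exact allFrom_spec rel_10 j (by omega) (by omega)
  by_cases h16 : j < 21
  · exact allFrom_spec rel_16 j (by omega) (by omega)
  by_cases h21 : j < 26
  · exact allFrom_spec rel_21 j (by omega) (by omega)
  by_cases h26 : j < 31
  · exact allFrom_spec rel_26 j (by omega) (by omega)
  by_cases h31 : j < 36
  · exact allFrom_spec rel_31 j (by omega) (by omega)
  by_cases h36 : j < 41
  · exact allFrom_spec rel_36 j (by omega) (by omega)
  by_cases h41 : j < 45
  · exact allFrom_spec rel_41 j (by omega) (by omega)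
  by_cases h47 : j < 57
  · exact allFrom_spec rel_47 j (by omega) (by omega)
  omega

/-- The relator of the spider. -/
abbrev wrS : List ℕ := (Fi23a.relsL.getD 45 []).reverse

/-- The relator giving `l`. -/
abbrev wrL : List ℕ := (Fi23a.relsL.getD 46 []).reverse

theorem relS_0 : chkL NL 306938 19 wrS [] [0, 1, 2] = true := by decide +kernel

theorem relS_1 : chkL NL 306938 19 wrS [] [3, 4, 5] = true := by decide +kernel

theorem relS_2 : chkL NL 306938 19 wrS [] [6, 7, 8] = true := by decide +kernel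

theorem relS_3 : chkL NL 306938 19 wrS [] [9, 10, 11] = true := by decide +kernel

theorem relS_4 : chkL NL 306938 19 wrS [] [12, 13, 14] = true := by decide +kernel

theorem relS_5 : chkL NL 306938 19 wrS [] [15, 16, 17, 18] = true := by decide +kernel

/-- The spider relator. -/
theorem relS : El wrS = El [] :=
  El_eq2 relS_0 relS_1 relS_2 relS_3 relS_4 relS_5

theorem relL_0 : chkL NL 306938 19 wrL [10] [0, 1, 2] = true := by decide +kernel

theorem relL_1 : chkL NL 306938 19 wrL [10] [3, 4, 5] = true := by decide +kernel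

theorem relL_2 : chkL NL 306938 19 wrL [10] [6, 7, 8] = true := by decide +kernel

theorem relL_3 : chkL NL 306938 19 wrL [10] [9, 10, 11] = true := by decide +kernel

theorem relL_4 : chkL NL 306938 19 wrL [10] [12, 13, 14] = true := by decide +kernel

theorem relL_5 : chkL NL 306938 19 wrL [10] [15, 16, 17, 18] = true := by decide +kernel

/-- The relator giving `l`. -/
theorem relL : El wrL = El [10] :=
  El_eq2 relL_0 relL_1 relL_2 relL_3 relL_4 relL_5

/-- `l` commutes with the letters. -/
noncomputable def chkCl (x : ℕ) : Bool := chkL NL 306938 19 [10, x] [x, 10] (List.range 19)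

theorem cl_0 : allFrom chkCl 5 0 = true := by decide +kernel

theorem cl_1 : allFrom chkCl 5 5 = true := by decide +kernel

/-- `k` commutes with the letters. -/
noncomputable def chkCk (x : ℕ) : Bool := chkL NL 306938 19 [11, x] [x, 11] (List.range 19)

theorem ck_1 : allFrom chkCk 2 1 = true := by decide +kernel

theorem ck_3 : allFrom chkCk 2 3 = true := by decide +kernel

theorem ck_5 : allFrom chkCk 2 5 = true := by decide +kernel

theorem ck_7 : allFrom chkCk 3 7 = true := by decide +kernel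

theorem klk : El [11, 10, 11] = El [10, 11, 10] := El_eq_all (by decide +kernel)

theorem kak : El [11, 0, 11] = El [0, 11, 0] := El_eq_all (by decide +kernel)

theorem kxi_0 : chkL NL 306938 19 (11 :: wxi) (wxi ++ [11]) [0, 1, 2] = true := by decide +kernel

theorem kxi_1 : chkL NL 306938 19 (11 :: wxi) (wxi ++ [11]) [3, 4, 5] = true := by decide +kernel

theorem kxi_2 : chkL NL 306938 19 (11 :: wxi) (wxi ++ [11]) [6, 7, 8] = true := by decide +kernel

theorem kxi_3 : chkL NL 306938 19 (11 :: wxi) (wxi ++ [11]) [9, 10, 11] = true := by decide +kernel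

theorem kxi_4 : chkL NL 306938 19 (11 :: wxi) (wxi ++ [11]) [12, 13, 14] = true := by decide +kernel

theorem kxi_5 : chkL NL 306938 19 (11 :: wxi) (wxi ++ [11]) [15, 16, 17, 18] = true := by decide +kernel

/-- `k` commutes with the element `xi`. -/
theorem kxi : El (11 :: wxi) = El (wxi ++ [11]) :=
  El_eq2 kxi_0 kxi_1 kxi_2 kxi_3 kxi_4 kxi_5

theorem kr5k_0 : chkL NL 306938 19 (11 :: (wr5 ++ [11])) (wh5 ++ (11 :: ws5)) [0, 1, 2] = true := by decide +kernel

theorem kr5k_1 : chkL NL 306938 19 (11 :: (wr5 ++ [11])) (wh5 ++ (11 :: ws5)) [3, 4, 5] = true := by decide +kernel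

theorem kr5k_2 : chkL NL 306938 19 (11 :: (wr5 ++ [11])) (wh5 ++ (11 :: ws5)) [6, 7, 8] = true := by decide +kernel

theorem kr5k_3 : chkL NL 306938 19 (11 :: (wr5 ++ [11])) (wh5 ++ (11 :: ws5)) [9, 10, 11] = true := by decide +kernel

theorem kr5k_4 : chkL NL 306938 19 (11 :: (wr5 ++ [11])) (wh5 ++ (11 :: ws5)) [12, 13, 14] = true := by decide +kernel

theorem kr5k_5 : chkL NL 306938 19 (11 :: (wr5 ++ [11])) (wh5 ++ (11 :: ws5)) [15, 16, 17, 18] = true := by decide +kernel

/-- The relation for the largest orbit. -/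
theorem kr5k : El (11 :: (wr5 ++ [11])) = El (wh5 ++ (11 :: ws5)) :=
  El_eq2 kr5k_0 kr5k_1 kr5k_2 kr5k_3 kr5k_4 kr5k_5

/-- The identity for the conjugate of a letter by `w`. -/
abbrev wFl (c : ℕ) : List ℕ := ww.reverse ++ (c :: ww)

theorem wF0_0 : chkL NL 306938 19 (wFl 0) (wf 0) [0, 1, 2] = true := by decide +kernel

theorem wF0_1 : chkL NL 306938 19 (wFl 0) (wf 0) [3, 4, 5] = true := by decide +kernel

theorem wF0_2 : chkL NL 306938 19 (wFl 0) (wf 0) [6, 7, 8] = true := by decide +kernel

theorem wF0_3 : chkL NL 306938 19 (wFl 0) (wf 0) [9, 10, 11] = true := by decide +kernel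

theorem wF0_4 : chkL NL 306938 19 (wFl 0) (wf 0) [12, 13, 14] = true := by decide +kernel

theorem wF0_5 : chkL NL 306938 19 (wFl 0) (wf 0) [15, 16, 17, 18] = true := by decide +kernel

/-- The conjugate of the letter `0` by `w`. -/
theorem wF0 : El (wFl 0) = El (wf 0) :=
  El_eq2 wF0_0 wF0_1 wF0_2 wF0_3 wF0_4 wF0_5

theorem wF1_0 : chkL NL 306938 19 (wFl 1) (wf 1) [0, 1, 2] = true := by decide +kernel

theorem wF1_1 : chkL NL 306938 19 (wFl 1) (wf 1) [3, 4, 5] = true := by decide +kernel

theorem wF1_2 : chkL NL 306938 19 (wFl 1) (wf 1) [6, 7, 8] = true := by decide +kernel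

theorem wF1_3 : chkL NL 306938 19 (wFl 1) (wf 1) [9, 10, 11] = true := by decide +kernel

theorem wF1_4 : chkL NL 306938 19 (wFl 1) (wf 1) [12, 13, 14] = true := by decide +kernel

theorem wF1_5 : chkL NL 306938 19 (wFl 1) (wf 1) [15, 16, 17, 18] = true := by decide +kernel

/-- The conjugate of the letter `1` by `w`. -/
theorem wF1 : El (wFl 1) = El (wf 1) :=
  El_eq2 wF1_0 wF1_1 wF1_2 wF1_3 wF1_4 wF1_5

theorem wF2_0 : chkL NL 306938 19 (wFl 2) (wf 2) [0, 1, 2] = true := by decide +kernel

theorem wF2_1 : chkL NL 306938 19 (wFl 2) (wf 2) [3, 4, 5] = true := by decide +kernel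

theorem wF2_2 : chkL NL 306938 19 (wFl 2) (wf 2) [6, 7, 8] = true := by decide +kernel

theorem wF2_3 : chkL NL 306938 19 (wFl 2) (wf 2) [9, 10, 11] = true := by decide +kernel

theorem wF2_4 : chkL NL 306938 19 (wFl 2) (wf 2) [12, 13, 14] = true := by decide +kernel

theorem wF2_5 : chkL NL 306938 19 (wFl 2) (wf 2) [15, 16, 17, 18] = true := by decide +kernel

/-- The conjugate of the letter `2` by `w`. -/
theorem wF2 : El (wFl 2) = El (wf 2) :=
  El_eq2 wF2_0 wF2_1 wF2_2 wF2_3 wF2_4 wF2_5

theorem wF3_0 : chkL NL 306938 19 (wFl 3) (wf 3) [0, 1, 2] = true := by decide +kernel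

theorem wF3_1 : chkL NL 306938 19 (wFl 3) (wf 3) [3, 4, 5] = true := by decide +kernel

theorem wF3_2 : chkL NL 306938 19 (wFl 3) (wf 3) [6, 7, 8] = true := by decide +kernel

theorem wF3_3 : chkL NL 306938 19 (wFl 3) (wf 3) [9, 10, 11] = true := by decide +kernel

theorem wF3_4 : chkL NL 306938 19 (wFl 3) (wf 3) [12, 13, 14] = true := by decide +kernel

theorem wF3_5 : chkL NL 306938 19 (wFl 3) (wf 3) [15, 16, 17, 18] = true := by decide +kernel

/-- The conjugate of the letter `3` by `w`. -/
theorem wF3 : El (wFl 3) = El (wf 3) :=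
  El_eq2 wF3_0 wF3_1 wF3_2 wF3_3 wF3_4 wF3_5

theorem wF4_0 : chkL NL 306938 19 (wFl 4) (wf 4) [0, 1, 2] = true := by decide +kernel

theorem wF4_1 : chkL NL 306938 19 (wFl 4) (wf 4) [3, 4, 5] = true := by decide +kernel

theorem wF4_2 : chkL NL 306938 19 (wFl 4) (wf 4) [6, 7, 8] = true := by decide +kernel

theorem wF4_3 : chkL NL 306938 19 (wFl 4) (wf 4) [9, 10, 11] = true := by decide +kernel

theorem wF4_4 : chkL NL 306938 19 (wFl 4) (wf 4) [12, 13, 14] = true := by decide +kernel

theorem wF4_5 : chkL NL 306938 19 (wFl 4) (wf 4) [15, 16, 17, 18] = true := by decide +kernel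

/-- The conjugate of the letter `4` by `w`. -/
theorem wF4 : El (wFl 4) = El (wf 4) :=
  El_eq2 wF4_0 wF4_1 wF4_2 wF4_3 wF4_4 wF4_5

theorem wF5_0 : chkL NL 306938 19 (wFl 5) (wf 5) [0, 1, 2] = true := by decide +kernel

theorem wF5_1 : chkL NL 306938 19 (wFl 5) (wf 5) [3, 4, 5] = true := by decide +kernel

theorem wF5_2 : chkL NL 306938 19 (wFl 5) (wf 5) [6, 7, 8] = true := by decide +kernel

theorem wF5_3 : chkL NL 306938 19 (wFl 5) (wf 5) [9, 10, 11] = true := by decide +kernel

theorem wF5_4 : chkL NL 306938 19 (wFl 5) (wf 5) [12, 13, 14] = true := by decide +kernel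

theorem wF5_5 : chkL NL 306938 19 (wFl 5) (wf 5) [15, 16, 17, 18] = true := by decide +kernel

/-- The conjugate of the letter `5` by `w`. -/
theorem wF5 : El (wFl 5) = El (wf 5) :=
  El_eq2 wF5_0 wF5_1 wF5_2 wF5_3 wF5_4 wF5_5

theorem wF6_0 : chkL NL 306938 19 (wFl 6) (wf 6) [0, 1, 2] = true := by decide +kernel

theorem wF6_1 : chkL NL 306938 19 (wFl 6) (wf 6) [3, 4, 5] = true := by decide +kernel

theorem wF6_2 : chkL NL 306938 19 (wFl 6) (wf 6) [6, 7, 8] = true := by decide +kernel

theorem wF6_3 : chkL NL 306938 19 (wFl 6) (wf 6) [9, 10, 11] = true := by decide +kernel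

theorem wF6_4 : chkL NL 306938 19 (wFl 6) (wf 6) [12, 13, 14] = true := by decide +kernel

theorem wF6_5 : chkL NL 306938 19 (wFl 6) (wf 6) [15, 16, 17, 18] = true := by decide +kernel

/-- The conjugate of the letter `6` by `w`. -/
theorem wF6 : El (wFl 6) = El (wf 6) :=
  El_eq2 wF6_0 wF6_1 wF6_2 wF6_3 wF6_4 wF6_5

theorem wF8_0 : chkL NL 306938 19 (wFl 8) (wf 8) [0, 1, 2] = true := by decide +kernel

theorem wF8_1 : chkL NL 306938 19 (wFl 8) (wf 8) [3, 4, 5] = true := by decide +kernel

theorem wF8_2 : chkL NL 306938 19 (wFl 8) (wf 8) [6, 7, 8] = true := by decide +kernel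

theorem wF8_3 : chkL NL 306938 19 (wFl 8) (wf 8) [9, 10, 11] = true := by decide +kernel

theorem wF8_4 : chkL NL 306938 19 (wFl 8) (wf 8) [12, 13, 14] = true := by decide +kernel

theorem wF8_5 : chkL NL 306938 19 (wFl 8) (wf 8) [15, 16, 17, 18] = true := by decide +kernel

/-- The conjugate of the letter `8` by `w`. -/
theorem wF8 : El (wFl 8) = El (wf 8) :=
  El_eq2 wF8_0 wF8_1 wF8_2 wF8_3 wF8_4 wF8_5

theorem wF9_0 : chkL NL 306938 19 (wFl 9) (wf 9) [0, 1, 2] = true := by decide +kernel

theorem wF9_1 : chkL NL 306938 19 (wFl 9) (wf 9) [3, 4, 5] = true := by decide +kernel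

theorem wF9_2 : chkL NL 306938 19 (wFl 9) (wf 9) [6, 7, 8] = true := by decide +kernel

theorem wF9_3 : chkL NL 306938 19 (wFl 9) (wf 9) [9, 10, 11] = true := by decide +kernel

theorem wF9_4 : chkL NL 306938 19 (wFl 9) (wf 9) [12, 13, 14] = true := by decide +kernel

theorem wF9_5 : chkL NL 306938 19 (wFl 9) (wf 9) [15, 16, 17, 18] = true := by decide +kernel

/-- The conjugate of the letter `9` by `w`. -/
theorem wF9 : El (wFl 9) = El (wf 9) :=
  El_eq2 wF9_0 wF9_1 wF9_2 wF9_3 wF9_4 wF9_5

theorem wF10_0 : chkL NL 306938 19 (wFl 10) (wf 10) [0, 1, 2] = true := by decide +kernel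

theorem wF10_1 : chkL NL 306938 19 (wFl 10) (wf 10) [3, 4, 5] = true := by decide +kernel

theorem wF10_2 : chkL NL 306938 19 (wFl 10) (wf 10) [6, 7, 8] = true := by decide +kernel

theorem wF10_3 : chkL NL 306938 19 (wFl 10) (wf 10) [9, 10, 11] = true := by decide +kernel

theorem wF10_4 : chkL NL 306938 19 (wFl 10) (wf 10) [12, 13, 14] = true := by decide +kernel

theorem wF10_5 : chkL NL 306938 19 (wFl 10) (wf 10) [15, 16, 17, 18] = true := by decide +kernel

/-- The conjugate of the letter `10` by `w`. -/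
theorem wF10 : El (wFl 10) = El (wf 10) :=
  El_eq2 wF10_0 wF10_1 wF10_2 wF10_3 wF10_4 wF10_5

theorem wF11_0 : chkL NL 306938 19 (wFl 11) (wf 11) [0, 1, 2] = true := by decide +kernel

theorem wF11_1 : chkL NL 306938 19 (wFl 11) (wf 11) [3, 4, 5] = true := by decide +kernel

theorem wF11_2 : chkL NL 306938 19 (wFl 11) (wf 11) [6, 7, 8] = true := by decide +kernel

theorem wF11_3 : chkL NL 306938 19 (wFl 11) (wf 11) [9, 10, 11] = true := by decide +kernel

theorem wF11_4 : chkL NL 306938 19 (wFl 11) (wf 11) [12, 13, 14] = true := by decide +kernel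

theorem wF11_5 : chkL NL 306938 19 (wFl 11) (wf 11) [15, 16, 17, 18] = true := by decide +kernel

/-- The conjugate of the letter `11` by `w`. -/
theorem wF11 : El (wFl 11) = El (wf 11) :=
  El_eq2 wF11_0 wF11_1 wF11_2 wF11_3 wF11_4 wF11_5

end Cfsg.Agent.Lib.Fischer.M24.Explicit
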