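/-
The orbit computations on bitsets for the stabilizer of the point of `l` in the explicit `Fi24`.
-/
import Mathlib
import Cfsg.Agent.Lib.Fischer.M24.E.Core

set_option autoImplicit false
set_option Elab.async false

namespace Cfsg.Agent.Lib.Fischer.M24.Explicit

open Cfsg Cfsg.Agent.Lib.Compute.BitNet Cfsg.Agent.Lib.Fischer.M24.Net Cfsg.Agent.Lib.Compute.ToddCoxeterCore

/-- A single point, as a bitset. -/
def sgl (p : ℕ) : ℕ := Nat.shiftLeft 1 p

theorem O1_inv : ∀ x ∈ hL, netA (NL x) (rng 31672 306936) = rng 31672 306936 := by decide +kernel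

theorem pt0_inv : ∀ x ∈ hL, netA (NL x) (rng 31671 31672) = rng 31671 31672 := by decide +kernel

theorem O_inv : ∀ x ∈ gL, netA (NL x) (fullS 306936) = fullS 306936 := by decide +kernel

theorem reach_k0 : FF.rounds hL 8 (sgl 31672) = rng 31672 306936 := by decide +kernel

theorem reach_a : FF.rounds hL 9 (sgl 11589) = fullS 31671 := by decide +kernel

theorem cover1 : Nat.lor (sgl 31672) (Nat.lor (sgl 31673) (Nat.lor (FF.rounds bL 8 (sgl 31674))
    (Nat.lor (FF.rounds bL 8 (sgl 31675)) (FF.rounds bL 8 (sgl 32182))))) = rng 31672 306936 := by decide +kernel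

theorem cover2 : Nat.lor (FF.rounds bL 11 (sgl 0)) (Nat.lor (FF.rounds bL 4 (sgl 23118)) (FF.rounds bL 8 (sgl 11589))) =
    fullS 31671 := by decide +kernel

theorem pos_k : posW NL [11] 31671 = 31672 := by decide +kernel

theorem pos_u0 : posW NL wu0 31671 = 11589 := by decide +kernel

theorem testBit_sgl (q i : ℕ) : (sgl q).testBit i = decide (i = q) := by
  have e : sgl q = 1 <<< q := rfl
  rw [e, Nat.one_shiftLeft, Nat.testBit_two_pow]
  simp [eq_comm]

theorem posW_of_wordA {u : List ℕ} {p q : ℕ} (h : wordA NL u (sgl q) = sgl p) : posW NL u p = q := by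
  have h1 := testBit_wordA FF.hv u (sgl q) p
  have h2 : (wordA NL u (sgl q)).testBit p = true := by
    rw [h, testBit_sgl]
    simp
  rw [show wordA FF.N u (sgl q) = wordA NL u (sgl q) from rfl, h2, testBit_sgl] at h1
  exact of_decide_eq_true h1.symm

theorem pos_v : posW NL wv 11589 = 0 := posW_of_wordA (by decide +kernel)

theorem pos_xi : posW NL wxi 0 = 23118 := posW_of_wordA (by decide +kernel)

theorem pos_l : posW NL [10] 31672 = 31673 := by decide +kernel

theorem pos_a : posW NL [0] 31672 = 31674 := by decide +kernel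

theorem pos_la : posW NL [10, 0] 31672 = 31675 := by decide +kernel

theorem pos_r5 : posW NL wr5 31672 = 32182 := by decide +kernel

theorem pc_E : 3240 ≤ pc 31671 (Nat.lor (FF.rounds bL 11 (sgl 0)) (FF.rounds bL 4 (sgl 23118))) := by decide +kernel

/-- The check of a step of a chain of subgroups. -/
noncomputable def stepChk (Y Y' : List ℕ) (p n c : ℕ) : Bool :=
  Y'.all (fun y => Nat.beq (posN (NL y) p) p) && Nat.ble c (pc 31671 (FF.rounds Y n (sgl p)))

theorem st1 : stepChk [1, 2, 3, 4, 5, 6, 8, 9] [2, 3, 4, 5, 6, 8, 9] 11589 6 3159 = true := by decide +kernel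
theorem st2 : stepChk [2, 3, 4, 5, 6, 8, 9] [2, 3, 4, 5, 8, 9] 1 9 56 = true := by decide +kernel
theorem st3 : stepChk [2, 3, 4, 5, 8, 9] [3, 4, 5, 8, 9] 695 6 72 = true := by decide +kernel
theorem st4 : stepChk [3, 4, 5, 8, 9] [4, 5, 8, 9] 224 3 20 = true := by decide +kernel
theorem st5 : stepChk [4, 5, 8, 9] [5, 8, 9] 4 1 3 = true := by decide +kernel
theorem st6 : stepChk [5, 8, 9] [8, 9] 2 1 2 = true := by decide +kernel
theorem st7 : stepChk [8, 9] [9] 5 1 3 = true := by decide +kernel
theorem st8 : stepChk [9] [] 7 1 2 = true := by decide +kernel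

end Cfsg.Agent.Lib.Fischer.M24.Explicit
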