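/-
Every involution of the explicit `Fi24` fixes a transposition: a fixed-point-free involution would swap two commuting
transpositions and induce an automorphism of order at most two on the explicit `Fi22`, which has a fixed transposition.
-/
import Mathlib
import Cfsg.Agent.Lib.Fischer.M24.E.Invol
import Cfsg.Agent.Lib.Fischer.M22.Rows.AutFix

set_option autoImplicit false
set_option maxRecDepth 100000

namespace Cfsg.Agent.Lib.Fischer.M24.NoFpf

open Cfsg Cfsg.Agent.Lib.Fischer.Basic Cfsg.Agent.Lib.Fischer.Local Cfsg.Agent.Lib.Fischer.M24.Explicit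

local notation "G0'" => Cfsg.Agent.Lib.Fischer.M22.Explicit.G0
local notation "D0'" => Cfsg.Agent.Lib.Fischer.M22.Explicit.D0
local notation "z1'" => Cfsg.Agent.Lib.Fischer.M23.Explicit.z1
local notation "H1'" => Cfsg.Agent.Lib.Fischer.M23.Explicit.H1
local notation "π1'" => Cfsg.Agent.Lib.Fischer.M23.Explicit.π1

/-- The map to `Fi22`. -/
noncomputable def ρ2 (k : G2) : G0' := π1' (π2 k)

theorem π2_one : π2 1 = 1 := by
  have h := π2_mul (a := 1) (b := 1) (one_mem _) (one_mem _)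
  rw [mul_one] at h
  exact (mul_eq_left.1 h.symm)

theorem π1_one' : π1' 1 = 1 := by
  have h := M23.Explicit.π1_mul (a := 1) (b := 1) (one_mem _) (one_mem _)
  rw [mul_one] at h
  exact (mul_eq_left.1 h.symm)

section
variable {y₀ : G2} (hy : y₀ ∈ Dlt D2 z2) (hπy : π2 y₀ = z1')
include hy hπy

/-- Membership in the centralizer of `z` and `y₀`. -/
theorem π2_mem_H1 {k : G2} (h1 : Commute k z2) (h2 : Commute k y₀) : π2 k ∈ H1' := by
  have hk : k ∈ H2 := (comm_z2_iff k).1 h1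
  apply (M23.Explicit.comm_z1_iff _).1
  rw [← hπy]
  show π2 k * π2 y₀ = π2 y₀ * π2 k
  rw [← π2_mul hk (mem_H2_of_Dlt hy), ← π2_mul (mem_H2_of_Dlt hy) hk, h2.eq]

theorem comm_of_π2_mem {k : G2} (hk : k ∈ H2) (h : π2 k ∈ H1') : Commute k y₀ := by
  have h1 : k * y₀ * k⁻¹ = y₀ := by
    apply lift_conj2 hk hy hy
    rw [hπy]
    have := (M23.Explicit.comm_z1_iff _).2 h
    rw [this.eq]
    group
  show k * y₀ = y₀ * k
  calc k * y₀ = (k * y₀ * k⁻¹) * k := by group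
    _ = y₀ * k := by rw [h1]

theorem ρ2_mul {k k' : G2} (h1 : Commute k z2) (h2 : Commute k y₀) (h1' : Commute k' z2) (h2' : Commute k' y₀) :
    ρ2 (k * k') = ρ2 k * ρ2 k' := by
  unfold ρ2
  rw [π2_mul ((comm_z2_iff k).1 h1) ((comm_z2_iff k').1 h1')]
  exact M23.Explicit.π1_mul (π2_mem_H1 hy hπy h1 h2) (π2_mem_H1 hy hπy h1' h2')

theorem ρ2_y : ρ2 y₀ = 1 := by
  unfold ρ2
  rw [hπy]
  exact M23.Explicit.π1_z

omit hy hπy in
theorem ρ2_z : ρ2 z2 = 1 := by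
  unfold ρ2
  rw [π2_z]
  exact π1_one'

theorem ρ2_surj (g : G0') : ∃ k : G2, Commute k z2 ∧ Commute k y₀ ∧ ρ2 k = g := by
  obtain ⟨h₁, hh₁, rfl⟩ := M23.Explicit.π1_surj g
  obtain ⟨k, hk, rfl⟩ := π2_surj h₁
  exact ⟨k, (comm_z2_iff k).2 hk, comm_of_π2_mem hy hπy hk hh₁, rfl⟩

/-- The fibres of the map. -/
theorem ρ2_fib {k k' : G2} (h1 : Commute k z2) (h2 : Commute k y₀) (h1' : Commute k' z2) (h2' : Commute k' y₀)
    (h : ρ2 k = ρ2 k') : k = k' ∨ k = k' * z2 ∨ k = k' * y₀ ∨ k = k' * y₀ * z2 := by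
  have hk : k ∈ H2 := (comm_z2_iff k).1 h1
  have hk' : k' ∈ H2 := (comm_z2_iff k').1 h1'
  rcases (M23.Explicit.π1_eq_iff (π2_mem_H1 hy hπy h1 h2) (π2_mem_H1 hy hπy h1' h2')).1 h with e | e
  · rcases (π2_eq_iff hk hk').1 e with e' | e'
    · exact Or.inl e'
    · exact Or.inr (Or.inl e')
  · have e2 : π2 k = π2 (k' * y₀) := by
      rw [π2_mul hk' (mem_H2_of_Dlt hy), hπy]
      exact e
    rcases (π2_eq_iff hk (mul_mem hk' (mem_H2_of_Dlt hy))).1 e2 with e' | e'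
    · exact Or.inr (Or.inr (Or.inl e'))
    · exact Or.inr (Or.inr (Or.inr e'))

variable {x : G2} (hxx : x * x = 1) (h1 : x * z2 * x⁻¹ = y₀)
include hxx h1

omit hy hπy in
theorem swap2 : x * y₀ * x⁻¹ = z2 := by
  have hxi : x⁻¹ = x := inv_eq_of_mul_eq_one_left hxx
  rw [← h1]
  calc x * (x * z2 * x⁻¹) * x⁻¹ = (x * x) * z2 * (x⁻¹ * x⁻¹) := by group
    _ = z2 := by rw [hxi, hxx, one_mul, mul_one]

omit hy hπy in
theorem conj_comm_zz {k : G2} (h2 : Commute k y₀) : Commute (x * k * x⁻¹) z2 := by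
  have h3 := conj_comm2 (g := x) h2
  rwa [swap2 hxx h1] at h3

omit hy hπy in
theorem conj_comm_y {k : G2} (h2 : Commute k z2) : Commute (x * k * x⁻¹) y₀ := by
  have h3 := conj_comm2 (g := x) h2
  rwa [h1] at h3

/-- Conjugation by `x` respects the fibres. -/
theorem ρ2_conj_eq {k k' : G2} (c1 : Commute k z2) (c2 : Commute k y₀) (c1' : Commute k' z2) (c2' : Commute k' y₀)
    (h : ρ2 k = ρ2 k') : ρ2 (x * k * x⁻¹) = ρ2 (x * k' * x⁻¹) := by
  have hs := swap2 hxx h1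
  have a1 := conj_comm_zz hxx h1 c2'
  have a2 := conj_comm_y hxx h1 c1'
  have hzc : Commute z2 y₀ := hy.2.2
  rcases ρ2_fib hy hπy c1 c2 c1' c2' h with e | e | e | e
  · rw [e]
  · have e' : x * k * x⁻¹ = (x * k' * x⁻¹) * (x * z2 * x⁻¹) := by rw [e]; group
    rw [e', h1, ρ2_mul hy hπy a1 a2 hzc.symm.symm.symm.symm.symm (Commute.refl _), ρ2_y hy hπy, mul_one] 
  · have e' : x * k * x⁻¹ = (x * k' * x⁻¹) * (x * y₀ * x⁻¹) := by rw [e]; group
    rw [e', hs, ρ2_mul hy hπy a1 a2 (Commute.refl _) hzc, ρ2_z, mul_one]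
  · have e' : x * k * x⁻¹ = (x * k' * x⁻¹) * (x * y₀ * x⁻¹) * (x * z2 * x⁻¹) := by rw [e]; group
    rw [e', hs, h1, ρ2_mul hy hπy (a1.mul_left (Commute.refl _)) (a2.mul_left hzc) hzc.symm (Commute.refl _),
      ρ2_mul hy hπy a1 a2 (Commute.refl _) hzc, ρ2_z, ρ2_y hy hπy, mul_one, mul_one]

/-- An involution swapping `z` and `y₀` fixes a transposition. -/
theorem fix_of_swap : ∃ p, φ x p = p := by
  classical
  have hxi : x⁻¹ = x := inv_eq_of_mul_eq_one_left hxx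
  have hs := swap2 hxx h1
  choose lift lz ly hl using ρ2_surj hy hπy
  have key : ∀ {k : G2}, Commute k z2 → Commute k y₀ → ρ2 (x * lift (ρ2 k) * x⁻¹) = ρ2 (x * k * x⁻¹) := by
    intro k c1 c2
    exact ρ2_conj_eq hy hπy hxx h1 (lz _) (ly _) c1 c2 (hl _)
  let α : G0' → G0' := fun g => ρ2 (x * lift g * x⁻¹)
  have hα : ∀ {k : G2}, Commute k z2 → Commute k y₀ → α (ρ2 k) = ρ2 (x * k * x⁻¹) := fun c1 c2 => key c1 c2
  have hinv : ∀ g, α (α g) = g := by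
    intro g
    have e1 := hα (conj_comm_zz hxx h1 (ly g)) (conj_comm_y hxx h1 (lz g))
    have e2 : x * (x * lift g * x⁻¹) * x⁻¹ = lift g := by
      calc x * (x * lift g * x⁻¹) * x⁻¹ = (x * x) * lift g * (x⁻¹ * x⁻¹) := by group
        _ = lift g := by rw [hxi, hxx, one_mul, mul_one]
    show α (ρ2 (x * lift g * x⁻¹)) = g
    rw [e1, e2, hl]
  have hmul : ∀ g g', α (g * g') = α g * α g' := by
    intro g g'
    have e0 : g * g' = ρ2 (lift g * lift g') := by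
      rw [ρ2_mul hy hπy (lz g) (ly g) (lz g') (ly g'), hl, hl]
    have e1 := hα ((lz g).mul_left (lz g')) ((ly g).mul_left (ly g'))
    rw [e0, e1]
    have e2 : x * (lift g * lift g') * x⁻¹ = (x * lift g * x⁻¹) * (x * lift g' * x⁻¹) := by group
    rw [e2, ρ2_mul hy hπy (conj_comm_zz hxx h1 (ly g)) (conj_comm_y hxx h1 (lz g)) (conj_comm_zz hxx h1 (ly g'))
      (conj_comm_y hxx h1 (lz g'))]
  let ψ : G0' ≃* G0' :=
    { toFun := α, invFun := α, left_inv := hinv, right_inv := hinv, map_mul' := hmul }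
  obtain ⟨τ, hτ, hfτ⟩ := Cfsg.Agent.Lib.Fischer.M22.Rows.AutFix.main ψ hinv
  have hfτ' : α τ = τ := hfτ
  obtain ⟨b₁, hb₁, rfl⟩ := M23.Explicit.π1_surj_D hτ
  obtain ⟨c, hc, rfl⟩ := π2_surj_D hb₁.1
  have c1 : Commute c z2 := hc.2.2.symm
  have c2 : Commute c y₀ := (π2_comm hc hy).2 (by rw [hπy]; exact hb₁.2.2.symm)
  have hρc : ρ2 c = π1' (π2 c) := rfl
  have e3 := hα c1 c2
  rw [hρc, hfτ'] at e3
  have c3 := conj_comm_zz hxx h1 c2
  have c4 := conj_comm_y hxx h1 c1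
  have hcD : x * c * x⁻¹ ∈ D2 := D2_conj x c hc.1
  have hne1 : x * c * x⁻¹ ≠ z2 := by
    intro k
    have e : c = y₀ := by
      have e4 : x * (x * c * x⁻¹) * x⁻¹ = c := by
        calc x * (x * c * x⁻¹) * x⁻¹ = (x * x) * c * (x⁻¹ * x⁻¹) := by group
          _ = c := by rw [hxi, hxx, one_mul, mul_one]
      rw [← e4, k, h1]
    exact hb₁.2.1 (by rw [← hπy, e])
  have hc' : x * c * x⁻¹ ∈ Dlt D2 z2 := ⟨hcD, hne1, c3.symm⟩
  have hD1 : π2 (x * c * x⁻¹) ∈ M23.Explicit.D1 := π2_mem_D1 hc'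
  have hne2 : π2 (x * c * x⁻¹) ≠ z1' := by
    intro k
    have e : x * c * x⁻¹ = y₀ := π2_inj hc' hy (by rw [k, hπy])
    have e4 : x * c * x⁻¹ = x * z2 * x⁻¹ := by rw [e, h1]
    have e5 : c = z2 := by simpa [mul_assoc] using e4
    exact hc.2.1 e5
  have hcomm : Commute z1' (π2 (x * c * x⁻¹)) := by
    rw [← hπy]
    exact ((π2_comm hc' hy).1 c4).symm
  have hb' : π2 (x * c * x⁻¹) ∈ Dlt M23.Explicit.D1 z1' := ⟨hD1, hne2, hcomm⟩
  have e6 : π2 (x * c * x⁻¹) = π2 c := M23.Explicit.π1_inj hb' hb₁ e3.symm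
  have e7 : x * c * x⁻¹ = c := π2_inj hc' hc e6
  obtain ⟨p, rfl⟩ := mem_D2.1 hc.1
  refine ⟨p, (comm_t_iff' x p).1 ?_⟩
  show x * t p = t p * x
  calc x * t p = (x * t p * x⁻¹) * x := by group
    _ = t p * x := by rw [e7]

end

/-- Every involution of the explicit `Fi24` fixes a label. -/
theorem exists_fix2 {x : G2} (hxx : x * x = 1) : ∃ p, φ x p = p := by
  classical
  by_contra hne
  push_neg at hne
  have hxi : x⁻¹ = x := inv_eq_of_mul_eq_one_left hxx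
  have hbD : x * z2 * x⁻¹ ∈ D2 := D2_conj x z2 z2_mem
  have hbne : x * z2 * x⁻¹ ≠ z2 := by
    intro k
    have h1 : Commute x (t q0) := by
      rw [t_q0]
      show x * z2 = z2 * x
      calc x * z2 = (x * z2 * x⁻¹) * x := by group
        _ = z2 * x := by rw [k]
    exact hne q0 ((comm_t_iff' x q0).1 h1)
  have hbb : x * (x * z2 * x⁻¹) * x⁻¹ = z2 := by
    calc x * (x * z2 * x⁻¹) * x⁻¹ = (x * x) * z2 * (x⁻¹ * x⁻¹) := by group
      _ = z2 := by rw [hxi, hxx, one_mul, mul_one]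
  have hbc : Commute z2 (x * z2 * x⁻¹) := by
    rcases tt2.br z2 z2_mem _ hbD with h | h
    · exact h
    · exfalso
      have he : z2 * (x * z2 * x⁻¹) * z2 ∈ D2 := by
        have := D2_conj z2 _ hbD
        rwa [show z2⁻¹ = z2 from inv_eq_of_mul_eq_one_left z2_sq] at this
      have hfix : x * (z2 * (x * z2 * x⁻¹) * z2) * x⁻¹ = z2 * (x * z2 * x⁻¹) * z2 := by
        have e : x * (z2 * (x * z2 * x⁻¹) * z2) * x⁻¹ =
            (x * z2 * x⁻¹) * (x * (x * z2 * x⁻¹) * x⁻¹) * (x * z2 * x⁻¹) := by group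
        rw [e, hbb, ← h]
      obtain ⟨p, hp⟩ := mem_D2.1 he
      rw [hp] at hfix
      apply hne p
      refine (comm_t_iff' x p).1 ?_
      show x * t p = t p * x
      calc x * t p = (x * t p * x⁻¹) * x := by group
        _ = t p * x := by rw [hfix]
  have hb : x * z2 * x⁻¹ ∈ Dlt D2 z2 := ⟨hbD, hbne, hbc⟩
  obtain ⟨y₀, hy, hπy⟩ := π2_surj_D M23.Explicit.z1_mem
  obtain ⟨u, hu⟩ := M23.Explicit.conj_trans1 _ (π2_mem_D1 hb) z1' M23.Explicit.z1_mem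
  obtain ⟨h, hh, rfl⟩ := π2_surj u
  have e : h * (x * z2 * x⁻¹) * h⁻¹ = y₀ := by
    apply lift_conj2 hh hb hy
    rw [hu, hπy]
  have hzh : h * z2 * h⁻¹ = z2 := conj_z2 hh
  have hxx' : (h * x * h⁻¹) * (h * x * h⁻¹) = 1 := by
    calc (h * x * h⁻¹) * (h * x * h⁻¹) = h * (x * x) * h⁻¹ := by group
      _ = 1 := by rw [hxx]; group
  have h1 : (h * x * h⁻¹) * z2 * (h * x * h⁻¹)⁻¹ = y₀ := by
    rw [← e]
    have e2 : z2 = h * z2 * h⁻¹ := hzh.symm
    calc (h * x * h⁻¹) * z2 * (h * x * h⁻¹)⁻¹ = (h * x * h⁻¹) * (h * z2 * h⁻¹) * (h * x * h⁻¹)⁻¹ := by rw [← e2]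
      _ = h * (x * z2 * x⁻¹) * h⁻¹ := by group
  obtain ⟨p, hp⟩ := fix_of_swap hy hπy hxx' h1
  apply hne (φ h⁻¹ p)
  have e3 : φ (h * x * h⁻¹) p = φ h (φ x (φ h⁻¹ p)) := by
    rw [map_mul, map_mul]
    rfl
  rw [e3] at hp
  apply (φ h).injective
  rw [hp, ← Equiv.Perm.mul_apply, ← map_mul, mul_inv_cancel, map_one]
  rfl

end Cfsg.Agent.Lib.Fischer.M24.NoFpf
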