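/-
The classes of involutions of the explicit `Fi24`: every involution is a product of at most four commuting transpositions, the
products of a given number form one class, and the number is determined.
-/
import Mathlib
import Cfsg.Agent.Lib.Fischer.M24.E.NoFpf

set_option autoImplicit false
set_option maxRecDepth 100000
set_option Elab.async false

namespace Cfsg.Agent.Lib.Fischer.M24.InvolAll

open Cfsg Cfsg.Agent.Lib.Compute.BitNet Cfsg.Agent.Lib.Fischer.M24.Net Cfsg.Agent.Lib.Fischer.M24.Explicit Cfsg.Agent.Lib.Fischer.M24.NoFpf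
open Cfsg.Agent.Lib.Fischer.Basic Cfsg.Agent.Lib.Fischer.Local
open Cfsg.Agent.Lib.Fischer.M22.Explicit (PM PM_map)

/-! ### Products of commuting transpositions -/

theorem PM_single2 {d : G2} (hd : d ∈ D2) : PM D2 1 d :=
  ⟨[d], by simp, rfl, by simpa using hd, by simp, by simp⟩

theorem PM_conj2 (g : G2) {m : ℕ} {x : G2} (h : PM D2 m x) : PM D2 m (g * x * g⁻¹) := by
  have := PM_map (MulAut.conj g) (D := D2) (D' := D2) (fun a ha => by
    rw [MulAut.conj_apply]
    exact D2_conj g a ha) h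
  rwa [MulAut.conj_apply] at this

theorem PM_conj_iff2 (g : G2) {m : ℕ} {x : G2} : PM D2 m (g * x * g⁻¹) ↔ PM D2 m x := by
  refine ⟨fun h => ?_, PM_conj2 g⟩
  have := PM_conj2 g⁻¹ h
  have e : g⁻¹ * (g * x * g⁻¹) * g⁻¹⁻¹ = x := by group
  rwa [e] at this

theorem π2_prod (l : List G2) (h : ∀ a ∈ l, a ∈ H2) : l.prod ∈ H2 ∧ π2 l.prod = (l.map π2).prod := by
  induction l with
  | nil =>
    exact ⟨one_mem _, by rw [List.prod_nil, π2_one]; rfl⟩
  | cons y l ih =>
    obtain ⟨h1, h2⟩ := ih (fun a ha => h a (List.mem_cons_of_mem _ ha))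
    have hy := h y List.mem_cons_self
    refine ⟨by rw [List.prod_cons]; exact mul_mem hy h1, ?_⟩
    rw [List.prod_cons, π2_mul hy h1, h2, List.map_cons, List.prod_cons]

/-- The lift of a list of transpositions of the explicit `Fi23`. -/
theorem lift_list2 (l : List G1) (hD : ∀ a ∈ l, a ∈ D1) :
    ∃ l' : List G2, l'.map π2 = l ∧ ∀ a ∈ l', a ∈ Dlt D2 z2 := by
  induction l with
  | nil => exact ⟨[], rfl, by simp⟩
  | cons y l ih =>
    obtain ⟨l', h1, h2⟩ := ih (fun a ha => hD a (List.mem_cons_of_mem _ ha))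
    obtain ⟨b, hb, rfl⟩ := π2_surj_D (hD y List.mem_cons_self)
    refine ⟨b :: l', by rw [List.map_cons, h1], ?_⟩
    intro a ha
    rcases List.mem_cons.1 ha with rfl | ha
    · exact hb
    · exact h2 a ha

/-- The lift of a product of commuting transpositions of the explicit `Fi23`. -/
theorem PM_lift2 {m : ℕ} {y : G1} (h : PM D1 m y) :
    ∃ l' : List G2, l'.Nodup ∧ l'.length = m ∧ (∀ a ∈ l', a ∈ Dlt D2 z2) ∧ (∀ a ∈ l', ∀ b ∈ l', Commute a b) ∧
      l'.prod ∈ H2 ∧ π2 l'.prod = y := by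
  obtain ⟨l, h1, h2, h3, h4, h5⟩ := h
  obtain ⟨l', e, hl⟩ := lift_list2 _ h3
  refine ⟨l', ?_, ?_, hl, ?_, ?_, ?_⟩
  · apply List.Nodup.of_map π2
    rw [e]
    exact h1
  · rw [← h2, ← e, List.length_map]
  · intro a ha b hb
    apply (π2_comm (hl a ha) (hl b hb)).2
    apply h4
    · rw [← e]; exact List.mem_map_of_mem ha
    · rw [← e]; exact List.mem_map_of_mem hb
  · exact (π2_prod l' (fun a ha => mem_H2_of_Dlt (hl a ha))).1
  · rw [(π2_prod l' (fun a ha => mem_H2_of_Dlt (hl a ha))).2, e, h5]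

theorem PM_of_Dlt2 {l' : List G2} (h1 : l'.Nodup) (h2 : ∀ a ∈ l', a ∈ Dlt D2 z2) (h3 : ∀ a ∈ l', ∀ b ∈ l', Commute a b) :
    PM D2 l'.length l'.prod := ⟨l', h1, rfl, fun a ha => (h2 a ha).1, h3, rfl⟩

theorem PM_cons_z2 {l' : List G2} (h1 : l'.Nodup) (h2 : ∀ a ∈ l', a ∈ Dlt D2 z2) (h3 : ∀ a ∈ l', ∀ b ∈ l', Commute a b) :
    PM D2 (l'.length + 1) (z2 * l'.prod) := by
  refine ⟨z2 :: l', List.nodup_cons.2 ⟨fun k => (h2 _ k).2.1 rfl, h1⟩, by simp, ?_, ?_, by simp⟩
  · intro a ha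
    rcases List.mem_cons.1 ha with rfl | ha
    · exact z2_mem
    · exact (h2 a ha).1
  · intro a ha b hb
    rcases List.mem_cons.1 ha with rfl | ha
    · rcases List.mem_cons.1 hb with rfl | hb
      · exact Commute.refl _
      · exact (h2 b hb).2.2
    · rcases List.mem_cons.1 hb with rfl | hb
      · exact (h2 a ha).2.2.symm
      · exact h3 a ha b hb

/-! ### Every involution is a product of at most four commuting transpositions -/

/-- An involution in `H2`. -/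
theorem invol_H2 {x : G2} (hx : x ∈ H2) (hxx : x * x = 1) (hx1 : x ≠ 1) : ∃ m, 1 ≤ m ∧ m ≤ 4 ∧ PM D2 m x := by
  have hy : π2 x * π2 x = 1 := by rw [← π2_mul hx hx, hxx, π2_one]
  by_cases hy1 : π2 x = 1
  · have h1 : π2 x = π2 1 := by rw [hy1, π2_one]
    rcases (π2_eq_iff hx (one_mem _)).1 h1 with h | h
    · exact absurd h hx1
    · rw [one_mul] at h
      rw [h]
      exact ⟨1, le_rfl, by norm_num, PM_single2 z2_mem⟩
  · have hord : orderOf (π2 x) = 2 := orderOf_eq_prime (by rw [pow_two]; exact hy) hy1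
    obtain ⟨m, hm1, hm3, hm⟩ := M23.Explicit.invol_all1 hord
    obtain ⟨l, h1, h2, h3, h4, h5, h6⟩ := PM_lift2 hm
    have h7 : π2 x = π2 l.prod := h6.symm
    rcases (π2_eq_iff hx h5).1 h7 with e | e
    · refine ⟨m, hm1, by omega, ?_⟩
      rw [e, ← h2]
      exact PM_of_Dlt2 h1 h3 h4
    · have e' : x = z2 * l.prod := by rw [e, (z2_comm_H h5).eq]
      refine ⟨m + 1, by omega, by omega, ?_⟩
      rw [e', ← h2]
      exact PM_cons_z2 h1 h3 h4

/-- Every involution of the group is a product of at most four commuting transpositions. -/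
theorem invol_all2 {x : G2} (hx : orderOf x = 2) : ∃ m, 1 ≤ m ∧ m ≤ 4 ∧ PM D2 m x := by
  have hxx : x * x = 1 := by
    rw [← pow_two, ← hx]
    exact pow_orderOf_eq_one x
  have hx1 : x ≠ 1 := by
    rintro rfl
    rw [orderOf_one] at hx
    omega
  obtain ⟨p, hp⟩ := exists_fix2 hxx
  have h1 : Commute x (t p) := (comm_t_iff' x p).2 hp
  obtain ⟨g, hg⟩ := conj_trans2 (t p) (t_mem p) z2 z2_mem
  have h2 : g * x * g⁻¹ ∈ H2 := by
    apply (comm_z2_iff _).1
    rw [← hg]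
    exact conj_comm2 h1
  have h3 : g * x * g⁻¹ * (g * x * g⁻¹) = 1 := by
    rw [← conj_mul2, hxx]
    group
  have h4 : g * x * g⁻¹ ≠ 1 := by
    intro k
    apply hx1
    have : x = g⁻¹ * (g * x * g⁻¹) * g := by group
    rw [this, k]
    group
  obtain ⟨m, h5, h6, h7⟩ := invol_H2 h2 h3 h4
  exact ⟨m, h5, h6, (PM_conj_iff2 g).1 h7⟩

/-! ### The classes -/

/-- The representatives of the four classes. -/
noncomputable def rep2 (m : ℕ) : G2 :=
  if m = 1 then z2 else if m = 2 then z2 * L 0 else if m = 3 then z2 * L 0 * L 2 else z2 * L 0 * L 2 * L 4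

theorem rep2_1 : rep2 1 = z2 := rfl
theorem rep2_2 : rep2 2 = z2 * L 0 := rfl
theorem rep2_3 : rep2 3 = z2 * L 0 * L 2 := rfl
theorem rep2_4 : rep2 4 = z2 * L 0 * L 2 * L 4 := rfl

theorem PM_two2 {a b : G2} (ha : a ∈ D2) (hb : b ∈ D2) (hc : Commute a b) (n : a ≠ b) : PM D2 2 (a * b) := by
  refine ⟨[a, b], by simpa using n, rfl, ?_, ?_, by simp⟩
  · intro u hu
    simp only [List.mem_cons, List.not_mem_nil, or_false] at hu
    rcases hu with rfl | rfl <;> assumption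
  · intro u hu v hv
    simp only [List.mem_cons, List.not_mem_nil, or_false] at hu hv
    rcases hu with rfl | rfl <;> rcases hv with rfl | rfl
    · exact Commute.refl _
    · exact hc
    · exact hc.symm
    · exact Commute.refl _

theorem PM_three2 {a b c : G2} (ha : a ∈ D2) (hb : b ∈ D2) (hc : c ∈ D2) (c12 : Commute a b) (c13 : Commute a c)
    (c23 : Commute b c) (n12 : a ≠ b) (n13 : a ≠ c) (n23 : b ≠ c) : PM D2 3 (a * b * c) := by
  refine ⟨[a, b, c], by simp [n12, n13, n23], rfl, ?_, ?_, by simp [mul_assoc]⟩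
  · intro u hu
    simp only [List.mem_cons, List.not_mem_nil, or_false] at hu
    rcases hu with rfl | rfl | rfl <;> assumption
  · intro u hu v hv
    simp only [List.mem_cons, List.not_mem_nil, or_false] at hu hv
    rcases hu with rfl | rfl | rfl <;> rcases hv with rfl | rfl | rfl
    · exact Commute.refl _
    · exact c12
    · exact c13
    · exact c12.symm
    · exact Commute.refl _
    · exact c23
    · exact c13.symm
    · exact c23.symm
    · exact Commute.refl _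

theorem PM_four2 {a b c d : G2} (ha : a ∈ D2) (hb : b ∈ D2) (hc : c ∈ D2) (hd : d ∈ D2) (c12 : Commute a b)
    (c13 : Commute a c) (c14 : Commute a d) (c23 : Commute b c) (c24 : Commute b d) (c34 : Commute c d) (n12 : a ≠ b)
    (n13 : a ≠ c) (n14 : a ≠ d) (n23 : b ≠ c) (n24 : b ≠ d) (n34 : c ≠ d) : PM D2 4 (a * b * c * d) := by
  refine ⟨[a, b, c, d], by simp [n12, n13, n14, n23, n24, n34], rfl, ?_, ?_, by simp [mul_assoc]⟩
  · intro u hu
    simp only [List.mem_cons, List.not_mem_nil, or_false] at hu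
    rcases hu with rfl | rfl | rfl | rfl <;> assumption
  · intro u hu v hv
    simp only [List.mem_cons, List.not_mem_nil, or_false] at hu hv
    rcases hu with rfl | rfl | rfl | rfl <;> rcases hv with rfl | rfl | rfl | rfl
    · exact Commute.refl _
    · exact c12
    · exact c13
    · exact c14
    · exact c12.symm
    · exact Commute.refl _
    · exact c23
    · exact c24
    · exact c13.symm
    · exact c23.symm
    · exact Commute.refl _
    · exact c34
    · exact c14.symm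
    · exact c24.symm
    · exact c34.symm
    · exact Commute.refl _

theorem PM_rep2 {m : ℕ} (h1 : 1 ≤ m) (h4 : m ≤ 4) : PM D2 m (rep2 m) := by
  obtain rfl | rfl | rfl | rfl : m = 1 ∨ m = 2 ∨ m = 3 ∨ m = 4 := by omega
  · exact PM_single2 z2_mem
  · exact PM_two2 z2_mem L0_mem_Dlt.1 L0_mem_Dlt.2.2 L0_mem_Dlt.2.1.symm
  · exact PM_three2 z2_mem L0_mem_Dlt.1 L2_mem_Dlt.1 L0_mem_Dlt.2.2 L2_mem_Dlt.2.2 comm_L0_L2 L0_mem_Dlt.2.1.symm
      L2_mem_Dlt.2.1.symm L0_ne_L2
  · exact PM_four2 z2_mem L0_mem_Dlt.1 L2_mem_Dlt.1 L4_mem_Dlt.1 L0_mem_Dlt.2.2 L2_mem_Dlt.2.2 L4_mem_Dlt.2.2 comm_L0_L2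
      comm_L0_L4 comm_L2_L4 L0_mem_Dlt.2.1.symm L2_mem_Dlt.2.1.symm L4_mem_Dlt.2.1.symm L0_ne_L2 L0_ne_L4 L2_ne_L4

/-- Every product of `m` commuting transpositions is conjugate to the representative. -/
theorem PM_conj_rep2 {m : ℕ} (h1 : 1 ≤ m) (h4 : m ≤ 4) {x : G2} (hx : PM D2 m x) : ∃ g : G2, g * x * g⁻¹ = rep2 m := by
  obtain ⟨l, hn, hl, hD, hc, rfl⟩ := hx
  obtain rfl | rfl | rfl | rfl : m = 1 ∨ m = 2 ∨ m = 3 ∨ m = 4 := by omega
  · obtain ⟨a, rfl⟩ := List.length_eq_one_iff.1 hl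
    obtain ⟨g, hg⟩ := conj_trans2 a (hD a (by simp)) z2 z2_mem
    refine ⟨g, ?_⟩
    simpa [rep2] using hg
  · obtain ⟨a, b, rfl⟩ := List.length_eq_two.1 hl
    simp only [List.nodup_cons, List.mem_cons, List.not_mem_nil, or_false, not_or, List.nodup_nil, and_true,
      not_false_eq_true] at hn
    obtain ⟨g, h5, h6⟩ := pair_nf2 (hD a (by simp)) (hD b (by simp)) (hc a (by simp) b (by simp)) hn
    refine ⟨g, ?_⟩
    simp only [List.prod_cons, List.prod_nil, mul_one]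
    rw [conj_mul2, h5, h6]
    rfl
  · obtain ⟨a, b, c, rfl⟩ := List.length_eq_three.1 hl
    simp only [List.nodup_cons, List.mem_cons, List.not_mem_nil, or_false, not_or, List.nodup_nil, and_true] at hn
    obtain ⟨⟨n12, n13⟩, n23, -⟩ := hn
    obtain ⟨g, h5, h6, h7⟩ := triple_nf2 (hD a (by simp)) (hD b (by simp)) (hD c (by simp)) (hc a (by simp) b (by simp))
      (hc a (by simp) c (by simp)) (hc b (by simp) c (by simp)) n12 n13 n23
    refine ⟨g, ?_⟩
    simp only [List.prod_cons, List.prod_nil, mul_one]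
    rw [conj_mul2, conj_mul2, h5, h6, h7, ← mul_assoc]
    rfl
  · rcases l with _ | ⟨a, _ | ⟨b, _ | ⟨c, _ | ⟨d, _ | ⟨e, l⟩⟩⟩⟩⟩
    · simp at hl
    · simp at hl
    · simp at hl
    · simp at hl
    · simp only [List.nodup_cons, List.mem_cons, List.not_mem_nil, or_false, not_or, List.nodup_nil, and_true] at hn
      obtain ⟨⟨n12, n13, n14⟩, ⟨n23, n24⟩, n34, -⟩ := hn
      obtain ⟨g, h5, h6, h7, h8⟩ := quad_nf2 (hD a (by simp)) (hD b (by simp)) (hD c (by simp)) (hD d (by simp))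
        (hc a (by simp) b (by simp)) (hc a (by simp) c (by simp)) (hc a (by simp) d (by simp)) (hc b (by simp) c (by simp))
        (hc b (by simp) d (by simp)) (hc c (by simp) d (by simp)) n12 n13 n14 n23 n24 n34
      refine ⟨g, ?_⟩
      simp only [List.prod_cons, List.prod_nil, mul_one]
      rw [conj_mul2, conj_mul2, conj_mul2, h5, h6, h7, h8]
      show _ = z2 * L 0 * L 2 * L 4
      group
    · simp at hl

theorem Lw_ne_one {u : List ℕ} (p : ℕ) (hp : p < 306936) (h : posW NL u p ≠ p) : Lw u ≠ 1 := by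
  intro k
  apply h
  have h1 := φ_Lw u ⟨p, hp⟩
  rw [k, map_one] at h1
  exact h1.symm

theorem Lw_10_0_2_4 : Lw [10, 0, 2, 4] = z2 * L 0 * L 2 * L 4 := by
  rw [Lw_cons, Lw_cons, Lw_cons, Lw_cons, Lw_nil, mul_one, mul_assoc, mul_assoc]
  rfl

theorem PM_sq_aux (l : List G2) (h1 : ∀ a ∈ l, a ∈ D2) (h2 : ∀ a ∈ l, ∀ b ∈ l, Commute a b) : l.prod * l.prod = 1 := by
  induction l with
  | nil => simp
  | cons y l ih =>
    have h3 := ih (fun a ha => h1 a (List.mem_cons_of_mem _ ha))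
      (fun a ha b hb => h2 a (List.mem_cons_of_mem _ ha) b (List.mem_cons_of_mem _ hb))
    have h4 : Commute y l.prod := Commute.list_prod_right _ _ (fun b hb => h2 y List.mem_cons_self b (List.mem_cons_of_mem _ hb))
    rw [List.prod_cons]
    calc y * l.prod * (y * l.prod) = y * (l.prod * y) * l.prod := by group
      _ = y * (y * l.prod) * l.prod := by rw [h4.eq]
      _ = (y * y) * (l.prod * l.prod) := by group
      _ = 1 := by rw [h3, tt2.sq y (h1 y List.mem_cons_self), one_mul]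

theorem PM_sq2 {m : ℕ} {x : G2} (h : PM D2 m x) : x * x = 1 := by
  obtain ⟨l, -, -, h1, h2, rfl⟩ := h
  exact PM_sq_aux l h1 h2

theorem rep2_ne {m : ℕ} (h1 : 1 ≤ m) (h4 : m ≤ 4) : rep2 m ≠ 1 := by
  obtain rfl | rfl | rfl | rfl : m = 1 ∨ m = 2 ∨ m = 3 ∨ m = 4 := by omega
  · rw [rep2_1, ← Lw_10]
    exact Lw_ne_one 31672 (by norm_num) (by decide +kernel)
  · rw [rep2_2, ← Lw_10_0]
    exact Lw_ne_one 8 (by norm_num) (by decide +kernel)
  · rw [rep2_3, ← Lw_10_0_2]
    exact Lw_ne_one 5 (by norm_num) (by decide +kernel)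
  · rw [rep2_4, ← Lw_10_0_2_4]
    exact Lw_ne_one 3 (by norm_num) (by decide +kernel)

theorem orderOf_rep2 {m : ℕ} (h1 : 1 ≤ m) (h4 : m ≤ 4) : orderOf (rep2 m) = 2 :=
  orderOf_eq_prime (by rw [pow_two, PM_sq2 (PM_rep2 h1 h4)]) (rep2_ne h1 h4)

/-! ### The number of factors -/

/-- A transposition commuting with a product of two commuting transpositions commutes with the first. -/
theorem comm_first2 {a b u : G2} (ha : a ∈ D2) (hb : b ∈ D2) (hu : u ∈ D2) (hc : Commute a b) (n : a ≠ b)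
    (h : Commute (a * b) u) : Commute a u := by
  obtain ⟨g, e1, e2⟩ := pair_nf2 ha hb hc n
  have h1 : Commute (z2 * L 0) (g * u * g⁻¹) := by
    rw [← e1, ← e2, ← conj_mul2]
    exact conj_comm2 h
  have h2 := comm_z_of_rep2 (D2_conj g u hu) h1
  rw [← e1] at h2
  have h3 := conj_comm2 (g := g⁻¹) h2
  have e3 : ∀ v : G2, g⁻¹ * (g * v * g⁻¹) * g⁻¹⁻¹ = v := fun v => by group
  rwa [e3, e3] at h3

/-- A transposition commuting with a product of three commuting transpositions commutes with the first. -/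
theorem comm_first3 {a b c u : G2} (ha : a ∈ D2) (hb : b ∈ D2) (hc : c ∈ D2) (hu : u ∈ D2) (c12 : Commute a b)
    (c13 : Commute a c) (c23 : Commute b c) (n12 : a ≠ b) (n13 : a ≠ c) (n23 : b ≠ c)
    (h : Commute (a * b * c) u) : Commute a u := by
  obtain ⟨g, e1, e2, e3⟩ := triple_nf2 ha hb hc c12 c13 c23 n12 n13 n23
  have h1 : Commute (z2 * L 0 * L 2) (g * u * g⁻¹) := by
    rw [← e1, ← e2, ← e3, ← conj_mul2, ← conj_mul2]
    exact conj_comm2 h
  have h2 := comm_z_of_rep3 (D2_conj g u hu) h1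
  rw [← e1] at h2
  have h3 := conj_comm2 (g := g⁻¹) h2
  have e4 : ∀ v : G2, g⁻¹ * (g * v * g⁻¹) * g⁻¹⁻¹ = v := fun v => by group
  rwa [e4, e4] at h3

/-- A transposition commuting with a product of at most three commuting transpositions commutes with a factor. -/
theorem comm_factor {k : ℕ} (h1 : 1 ≤ k) (h3 : k ≤ 3) {x : G2} (hx : PM D2 k x) :
    ∃ a ∈ D2, Commute a x ∧ ∀ u ∈ D2, Commute x u → Commute a u := by
  obtain ⟨l, hn, hl, hD, hc, rfl⟩ := hx
  obtain rfl | rfl | rfl : k = 1 ∨ k = 2 ∨ k = 3 := by omega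
  · obtain ⟨a, rfl⟩ := List.length_eq_one_iff.1 hl
    refine ⟨a, hD a (by simp), by simp, fun u _ h => by simpa using h⟩
  · obtain ⟨a, b, rfl⟩ := List.length_eq_two.1 hl
    simp only [List.nodup_cons, List.mem_cons, List.not_mem_nil, or_false, not_or, List.nodup_nil, and_true,
      not_false_eq_true] at hn
    simp only [List.prod_cons, List.prod_nil, mul_one]
    have ha := hD a (by simp)
    have hb := hD b (by simp)
    have c12 := hc a (by simp) b (by simp)
    exact ⟨a, ha, (Commute.refl a).mul_right c12, fun u hu h => comm_first2 ha hb hu c12 hn h⟩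
  · obtain ⟨a, b, c, rfl⟩ := List.length_eq_three.1 hl
    simp only [List.nodup_cons, List.mem_cons, List.not_mem_nil, or_false, not_or, List.nodup_nil, and_true] at hn
    obtain ⟨⟨n12, n13⟩, n23, -⟩ := hn
    simp only [List.prod_cons, List.prod_nil, mul_one]
    have ha := hD a (by simp)
    have hb := hD b (by simp)
    have hc' := hD c (by simp)
    have c12 := hc a (by simp) b (by simp)
    have c13 := hc a (by simp) c (by simp)
    have c23 := hc b (by simp) c (by simp)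
    refine ⟨a, ha, (Commute.refl a).mul_right (c12.mul_right c13), fun u hu h => ?_⟩
    exact comm_first3 ha hb hc' hu c12 c13 c23 n12 n13 n23 (by rwa [mul_assoc])

/-- Witnesses: words moving `l` to transpositions commuting with `z a c e`. -/
def w1 : List ℕ := [11, 0, 1, 2, 3, 8, 4, 3, 2, 1, 0, 11]
def w2 : List ℕ := [1, 0, 11, 10, 9, 3, 8, 4, 3, 2, 1, 0, 11]
def w3 : List ℕ := [3, 8, 5, 2, 3, 4, 1, 2, 3, 8, 4, 5, 6, 2, 3, 4, 5, 1, 2, 3, 4, 0, 1, 2, 3, 8, 9, 4, 5, 3, 4, 0, 1, 2, 3, 8, 7, 6, 5, 4,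
  3, 2, 1, 0, 11]

theorem Lw_append' (u v : List ℕ) : Lw (u ++ v) = Lw u * Lw v := Subtype.ext (El_append u v)

theorem Lw_reverse' (u : List ℕ) : Lw u.reverse = (Lw u)⁻¹ := Subtype.ext (El_reverse u)

theorem comm_z2_lt' (p : Fin NN) : Commute z2 (t p) ↔ (p : ℕ) < 31672 := by
  constructor
  · intro h
    by_cases e : p = q0
    · rw [e]
      norm_num [q0]
    · have h1 : t p ∈ Dlt D2 z2 := ⟨t_mem p, t_ne_z2 e, h⟩
      have := (t_mem_Dlt_iff p).1 h1
      omega
  · intro h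
    by_cases h1 : (p : ℕ) < 31671
    · exact ((t_mem_Dlt_iff p).2 h1).2.2
    · have e : p = q0 := by
        apply Fin.ext
        show (p : ℕ) = 31671
        omega
      rw [e, t_q0]

/-- The conjugate of `l` by a word. -/
noncomputable def yw' (v : List ℕ) : G2 := Lw v * z2 * (Lw v)⁻¹

theorem yw'_mem (v : List ℕ) : yw' v ∈ D2 := D2_conj _ _ z2_mem

/-- The points commuting with the conjugate of `l` by a word, as a bitset. -/
noncomputable def mW' (v : List ℕ) : ℕ := wordA NL v.reverse (fullS 31672)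

theorem mW'_iff (v : List ℕ) (p : Fin NN) : (mW' v).testBit p = true ↔ Commute (yw' v) (t p) := by
  have e0 : (mW' v).testBit p = (fullS 31672).testBit (posW NL v.reverse p) := testBit_wordA FF.hv v.reverse (fullS 31672) p
  have e1 : posW NL v.reverse p = φ (Lw v)⁻¹ p := by rw [← φ_Lw, Lw_reverse']
  rw [e0, e1, testBit_fullS, decide_eq_true_iff, ← comm_z2_lt', ← t_conj]
  have e2 : Commute (yw' v) (t p) ↔ Commute z2 ((Lw v)⁻¹ * t p * ((Lw v)⁻¹)⁻¹) := by
    unfold yw'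
    constructor
    · intro h
      have h3 := conj_comm2 (g := (Lw v)⁻¹) h
      have e3 : (Lw v)⁻¹ * (Lw v * z2 * (Lw v)⁻¹) * ((Lw v)⁻¹)⁻¹ = z2 := by group
      rwa [e3] at h3
    · intro h
      have h3 := conj_comm2 (g := Lw v) h
      have e3 : Lw v * ((Lw v)⁻¹ * t p * ((Lw v)⁻¹)⁻¹) * (Lw v)⁻¹ = t p := by group
      rwa [e3] at h3
  rw [e2]

theorem r4_yw {w : List ℕ} (h : posW NL [10, 0, 2, 4] (posW NL w 31671) = posW NL w 31671) : Commute (rep2 4) (yw' w) := by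
  have e : yw' w = t (φ (Lw w) q0) := (t_eq _).symm
  rw [e]
  apply (comm_t_iff' _ _).2
  apply Fin.ext
  rw [rep2_4, ← Lw_10_0_2_4, φ_Lw, φ_Lw]
  exact h

theorem r4_z : Commute (rep2 4) z2 := by
  rw [rep2_4]
  exact (((Commute.refl z2).mul_left L0_mem_Dlt.2.2.symm).mul_left L2_mem_Dlt.2.2.symm).mul_left L4_mem_Dlt.2.2.symm

theorem r4_Y1 : Commute (rep2 4) (yw' w1) := r4_yw (by decide +kernel)
theorem r4_Y2 : Commute (rep2 4) (yw' w2) := r4_yw (by decide +kernel)
theorem r4_Y3 : Commute (rep2 4) (yw' w3) := r4_yw (by decide +kernel)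

/-- No label is fixed by `z a c e` and commutes with `z` and all the witnesses. -/
theorem cover4 : Nat.land (Nat.xor (moved [10, 0, 2, 4]) (fullS 306936)) (Nat.land (fullS 31672)
    (Nat.land (mW' w1) (Nat.land (mW' w2) (mW' w3)))) = 0 := by decide +kernel

theorem moved_of_fixed {u : List ℕ} {p : Fin NN} (h : Commute (Lw u) (t p)) : (moved u).testBit p = false := by
  have hf : φ (Lw u) p = p := (comm_t_iff' _ _).1 h
  have h1 : posW NL u p = p := by rw [← φ_Lw, hf]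
  have hp : (p : ℕ) < 306938 := lt_of_lt_of_le p.2 (by norm_num [NN])
  cases k : (moved u).testBit p with
  | false => rfl
  | true => exact absurd h1 ((testBit_moved u hp).1 k)

/-- The product `z a c e` is not a product of fewer commuting transpositions. -/
theorem rep4_not_PM {k : ℕ} (h1 : 1 ≤ k) (h3 : k ≤ 3) : ¬ PM D2 k (rep2 4) := by
  intro hx
  obtain ⟨a, ha, hca, hall⟩ := comm_factor h1 h3 hx
  obtain ⟨p, rfl⟩ := mem_D2.1 ha
  have f0 : (moved [10, 0, 2, 4]).testBit p = false := by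
    apply moved_of_fixed
    rw [Lw_10_0_2_4, ← rep2_4]
    exact hca.symm
  have f1 : (p : ℕ) < 31672 := (comm_z2_lt' p).1 (hall z2 z2_mem r4_z).symm
  have f2 : (mW' w1).testBit p = true := (mW'_iff w1 p).2 (hall _ (yw'_mem w1) r4_Y1).symm
  have f3 : (mW' w2).testBit p = true := (mW'_iff w2 p).2 (hall _ (yw'_mem w2) r4_Y2).symm
  have f4 : (mW' w3).testBit p = true := (mW'_iff w3 p).2 (hall _ (yw'_mem w3) r4_Y3).symm
  have h5 := congrArg (fun x => x.testBit p) cover4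
  have e1 : ∀ P Q, Nat.land P Q = P &&& Q := fun _ _ => rfl
  have e2 : ∀ P Q, Nat.xor P Q = P ^^^ Q := fun _ _ => rfl
  simp only [e1, e2, Nat.testBit_and, Nat.testBit_xor, testBit_fullS, Nat.zero_testBit] at h5
  have h6 : decide ((p : ℕ) < 306936) = true := decide_eq_true p.2
  have h7 : decide ((p : ℕ) < 31672) = true := decide_eq_true f1
  rw [f0, f2, f3, f4, h6, h7] at h5
  simp at h5

theorem π2_L0L2 : π2 (L 0 * L 2) = M23.Explicit.L 0 * M23.Explicit.L 2 := by
  rw [π2_mul (mem_H2_of_Dlt L0_mem_Dlt) (mem_H2_of_Dlt L2_mem_Dlt), π2_L0, π2_L2]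

theorem π2_rep3 : π2 (z2 * L 0 * L 2) = M23.Explicit.L 0 * M23.Explicit.L 2 := by
  rw [π2_mul (mul_mem z2_H2 (mem_H2_of_Dlt L0_mem_Dlt)) (mem_H2_of_Dlt L2_mem_Dlt),
    π2_mul z2_H2 (mem_H2_of_Dlt L0_mem_Dlt), π2_z, one_mul, π2_L0, π2_L2]

theorem PM_L0L2 : PM D1 2 (M23.Explicit.L 0 * M23.Explicit.L 2) :=
  M23.Explicit.PM_pair1 M23.Explicit.L0_mem_Dlt.1 M23.Explicit.L2_mem.1 M23.Explicit.L0_L2_comm M23.Explicit.L0_ne_L2

/-- The product of `a` and `c` in `Fi23` is not the image of a transposition commuting with `z`. -/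
theorem not_image_two2 {w : G2} (hw : w ∈ D2) (hz : Commute z2 w) (h : π2 w = M23.Explicit.L 0 * M23.Explicit.L 2) :
    False := by
  by_cases e : w = z2
  · subst e
    rw [π2_z] at h
    exact M23.Explicit.L0_ne_L2 (eq_inv_of_mul_eq_one_left h.symm |>.trans
      (inv_eq_of_mul_eq_one_left (M23.Explicit.tt1.sq _ M23.Explicit.L2_mem.1)))
  · have hb : w ∈ Dlt D2 z2 := mem_Dlt_of2 hw hz e
    have h1 : PM D1 1 (π2 w) := M23.Explicit.PM_single1 (π2_mem_D1 hb)
    rw [h] at h1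
    have := M23.Explicit.PM_unique1 (by norm_num) (by norm_num) (by norm_num) (by norm_num) h1 PM_L0L2
    omega

theorem rep2_not_mem : z2 * L 0 ∉ D2 := by
  rw [z2_L0_comm]
  exact mul_z_not_mem L0_mem_Dlt

theorem rep3_not_mem : z2 * L 0 * L 2 ∉ D2 := by
  intro hd
  exact not_image_two2 hd (comm_z_of_rep3 hd (Commute.refl _)) π2_rep3

/-- `z a c` is not a product of two commuting transpositions. -/
theorem rep3_not_two {d3 d4 : G2} (h3 : d3 ∈ D2) (h4 : d4 ∈ D2) (hc : Commute d3 d4) (hp : d3 * d4 = z2 * L 0 * L 2) : False := by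
  have z3 : Commute z2 d3 := comm_z_of_rep3 h3 (by rw [← hp]; exact (Commute.refl _).mul_left hc.symm)
  have z4 : Commute z2 d4 := comm_z_of_rep3 h4 (by rw [← hp]; exact hc.mul_left (Commute.refl _))
  have m3 : d3 ∈ H2 := (comm_z2_iff _).1 z3.symm
  have m4 : d4 ∈ H2 := (comm_z2_iff _).1 z4.symm
  have hπ : π2 d3 * π2 d4 = M23.Explicit.L 0 * M23.Explicit.L 2 := by
    rw [← π2_mul m3 m4, hp, π2_rep3]
  by_cases e3 : d3 = z2
  · subst e3
    rw [π2_z, one_mul] at hπ
    exact not_image_two2 h4 z4 hπ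
  by_cases e4 : d4 = z2
  · subst e4
    rw [π2_z, mul_one] at hπ
    exact not_image_two2 h3 z3 hπ
  have hb3 : d3 ∈ Dlt D2 z2 := mem_Dlt_of2 h3 z3 e3
  have hb4 : d4 ∈ Dlt D2 z2 := mem_Dlt_of2 h4 z4 e4
  have key : d3 * d4 = L 0 * L 2 := by
    rcases M23.Explicit.FP2_1 M23.Explicit.L0_mem_Dlt.1 M23.Explicit.L2_mem.1 (π2_mem_D1 hb3) (π2_mem_D1 hb4)
      M23.Explicit.L0_L2_comm ((π2_comm hb3 hb4).1 hc) M23.Explicit.L0_ne_L2 hπ.symm with ⟨e1, e2⟩ | ⟨e1, e2⟩
    · rw [π2_inj hb3 L0_mem_Dlt (by rw [e1, π2_L0]), π2_inj hb4 L2_mem_Dlt (by rw [e2, π2_L2])]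
    · rw [π2_inj hb3 L2_mem_Dlt (by rw [e1, π2_L2]), π2_inj hb4 L0_mem_Dlt (by rw [e2, π2_L0])]
      exact comm_L0_L2.symm.eq
  rw [key, mul_assoc] at hp
  exact z2_ne_one (mul_eq_right.1 hp.symm)

theorem PM1_elim2 {x : G2} (h : PM D2 1 x) : x ∈ D2 := by
  obtain ⟨l, -, hl, hD, -, rfl⟩ := h
  obtain ⟨a, rfl⟩ := List.length_eq_one_iff.1 hl
  simpa using hD a (by simp)

theorem PM2_elim2 {x : G2} (h : PM D2 2 x) : ∃ a b, a ∈ D2 ∧ b ∈ D2 ∧ Commute a b ∧ a * b = x := by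
  obtain ⟨l, hn, hl, hD, hc, rfl⟩ := h
  obtain ⟨a, b, rfl⟩ := List.length_eq_two.1 hl
  exact ⟨a, b, hD a (by simp), hD b (by simp), hc a (by simp) b (by simp), by simp⟩

/-- The number of commuting transpositions is determined. -/
theorem PM_unique2 {m m' : ℕ} {x : G2} (h1 : 1 ≤ m) (h3 : m ≤ 4) (h1' : 1 ≤ m') (h3' : m' ≤ 4) (hx : PM D2 m x)
    (hx' : PM D2 m' x) : m = m' := by
  have key : ∀ {k k' : ℕ} {y : G2}, 1 ≤ k → k < k' → k' ≤ 4 → PM D2 k y → PM D2 k' y → False := by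
    intro k k' y hk hlt hk' hy hy'
    obtain ⟨g, hg⟩ := PM_conj_rep2 (by omega) hk' hy'
    have h5 := PM_conj2 g hy
    rw [hg] at h5
    obtain rfl | rfl | rfl : k' = 2 ∨ k' = 3 ∨ k' = 4 := by omega
    · obtain rfl : k = 1 := by omega
      exact rep2_not_mem (PM1_elim2 h5)
    · obtain rfl | rfl : k = 1 ∨ k = 2 := by omega
      · exact rep3_not_mem (PM1_elim2 h5)
      · obtain ⟨a, b, ha, hb, hc, e⟩ := PM2_elim2 h5
        exact rep3_not_two ha hb hc e
    · exact rep4_not_PM hk (by omega) h5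
  rcases Nat.lt_trichotomy m m' with h | h | h
  · exact (key h1 h h3' hx hx').elim
  · exact h
  · exact (key h1' h h3 hx' hx).elim

/-- The conclusion on involutions, for four classes. -/
def InvolConcl4 {G : Type*} [Group G] (D : Set G) : Prop :=
  (∀ x : G, orderOf x = 2 → ∃ m : ℕ, 1 ≤ m ∧ m ≤ 4 ∧ PM D m x) ∧
  (∀ m : ℕ, 1 ≤ m → m ≤ 4 → (∃ x : G, orderOf x = 2 ∧ PM D m x) ∧ ∀ x y : G, PM D m x → PM D m y → IsConj x y) ∧
  ∀ (m m' : ℕ) (x : G), 1 ≤ m → m ≤ 4 → 1 ≤ m' → m' ≤ 4 → PM D m x → PM D m' x → m = m'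

/-- The classes of involutions of the explicit `Fi24`. -/
theorem invol2 : InvolConcl4 D2 := by
  refine ⟨fun x hx => invol_all2 hx, fun m h1 h3 => ⟨⟨rep2 m, orderOf_rep2 h1 h3, PM_rep2 h1 h3⟩, ?_⟩,
    fun m m' x h1 h3 h1' h3' hx hx' => PM_unique2 h1 h3 h1' h3' hx hx'⟩
  intro x y hx hy
  obtain ⟨g, hg⟩ := PM_conj_rep2 h1 h3 hx
  obtain ⟨g', hg'⟩ := PM_conj_rep2 h1 h3 hy
  exact (isConj_iff.2 ⟨g, hg⟩).trans (isConj_iff.2 ⟨g', hg'⟩).symm

/-- The conclusion on involutions is invariant. -/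
theorem InvolConcl4_congr {G G' : Type*} [Group G] [Group G'] (e : G ≃* G') {D : Set G} {D' : Set G'}
    (hD : ∀ a, a ∈ D ↔ e a ∈ D') (h : InvolConcl4 D') : InvolConcl4 D := by
  have hPM : ∀ {m : ℕ} {x : G}, PM D m x ↔ PM D' m (e x) := by
    intro m x
    constructor
    · exact PM_map e (fun a ha => (hD a).1 ha)
    · intro k
      have := PM_map e.symm (D := D') (D' := D) (fun a ha => by
        rw [hD, MulEquiv.apply_symm_apply]
        exact ha) k
      rwa [MulEquiv.symm_apply_apply] at this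
  obtain ⟨h1, h2, h3⟩ := h
  refine ⟨?_, ?_, ?_⟩
  · intro x hx
    obtain ⟨m, ha, hb, hc⟩ := h1 (e x) (by rw [MulEquiv.orderOf_eq, hx])
    exact ⟨m, ha, hb, hPM.2 hc⟩
  · intro m ha hb
    obtain ⟨⟨x, hx, hx'⟩, hc⟩ := h2 m ha hb
    refine ⟨⟨e.symm x, by rw [MulEquiv.orderOf_eq, hx], hPM.2 (by rwa [MulEquiv.apply_symm_apply])⟩, ?_⟩
    intro x y hxm hym
    have := hc _ _ (hPM.1 hxm) (hPM.1 hym)
    obtain ⟨g, hg⟩ := isConj_iff.1 this
    refine isConj_iff.2 ⟨e.symm g, ?_⟩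
    apply e.injective
    rw [map_mul, map_mul, map_inv, MulEquiv.apply_symm_apply, hg]
  · intro m m' x ha hb ha' hb' hx hx'
    exact h3 m m' (e x) ha hb ha' hb' (hPM.1 hx) (hPM.1 hx')

/-! ### The class of transpositions is the only class of 3-transpositions -/

/-- Two products of `m` commuting transpositions whose product has large order. -/
theorem exists_far {m : ℕ} (h1 : 2 ≤ m) (h4 : m ≤ 4) : ∃ x y : G2, PM D2 m x ∧ PM D2 m y ∧ (x * y) ^ 6 ≠ 1 := by
  have c1 : Commute (L 11) (L 1) := L_comm_of (by decide +kernel)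
  have c2 : Commute (L 11) (L 3) := L_comm_of (by decide +kernel)
  have c3 : Commute (L 11) (L 5) := L_comm_of (by decide +kernel)
  have c4 : Commute (L 1) (L 3) := L_comm_of (by decide +kernel)
  have c5 : Commute (L 1) (L 5) := L_comm_of (by decide +kernel)
  have c6 : Commute (L 3) (L 5) := L_comm_of (by decide +kernel)
  have n1 : L 11 ≠ L 1 := L_ne_of 6 (by norm_num) (by decide +kernel)
  have n2 : L 11 ≠ L 3 := L_ne_of 4 (by norm_num) (by decide +kernel)
  have n3 : L 11 ≠ L 5 := L_ne_of 2 (by norm_num) (by decide +kernel)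
  have n4 : L 1 ≠ L 3 := L_ne_of 4 (by norm_num) (by decide +kernel)
  have n5 : L 1 ≠ L 5 := L_ne_of 2 (by norm_num) (by decide +kernel)
  have n6 : L 3 ≠ L 5 := L_ne_of 2 (by norm_num) (by decide +kernel)
  have key : ∀ u v : List ℕ, Lw (u ++ v ++ u ++ v ++ u ++ v ++ u ++ v ++ u ++ v ++ u ++ v) = (Lw u * Lw v) ^ 6 := by
    intro u v
    simp only [Lw_append', pow_succ, pow_zero, one_mul, mul_assoc]
  obtain rfl | rfl | rfl : m = 2 ∨ m = 3 ∨ m = 4 := by omega
  · refine ⟨_, L 11 * L 1, PM_rep2 (by norm_num) h4, PM_two2 L11_mem L1_mem c1 n1, ?_⟩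
    have e : rep2 2 * (L 11 * L 1) = Lw [10, 0] * Lw [11, 1] := by
      rw [rep2_2, Lw_10_0, Lw_cons 11, Lw_cons 1, Lw_nil, mul_one]
    rw [e, ← key]
    exact Lw_ne_one 6 (by norm_num) (by decide +kernel)
  · refine ⟨_, L 11 * L 1 * L 3, PM_rep2 (by norm_num) h4, PM_three2 L11_mem L1_mem L3_mem c1 c2 c4 n1 n2 n4, ?_⟩
    have e : rep2 3 * (L 11 * L 1 * L 3) = Lw [10, 0, 2] * Lw [11, 1, 3] := by
      rw [rep2_3, Lw_10_0_2, Lw_cons 11, Lw_cons 1, Lw_cons 3, Lw_nil, mul_one, mul_assoc (L 11)]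
    rw [e, ← key]
    exact Lw_ne_one 4 (by norm_num) (by decide +kernel)
  · refine ⟨_, L 11 * L 1 * L 3 * L 5, PM_rep2 (by norm_num) h4, PM_four2 L11_mem L1_mem L3_mem L5_mem c1 c2 c3 c4 c5 c6 n1 n2 n3 n4 n5 n6, ?_⟩
    have e : rep2 4 * (L 11 * L 1 * L 3 * L 5) = Lw [10, 0, 2, 4] * Lw [11, 1, 3, 5] := by
      rw [rep2_4, Lw_10_0_2_4, Lw_cons 11, Lw_cons 1, Lw_cons 3, Lw_cons 5, Lw_nil, mul_one]
      simp only [mul_assoc]
    rw [e, ← key]
    exact Lw_ne_one 2 (by norm_num) (by decide +kernel)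

/-- Transport. -/
theorem invol_of_iso2 {G : Type*} [Group G] {D : Set G} (e : G ≃* G2) (hD : ∀ a, a ∈ D ↔ e a ∈ D2) : InvolConcl4 D :=
  InvolConcl4_congr e hD invol2

/-- A class of 3-transpositions of a group isomorphic to the explicit `Fi24`, matching `D` and `D2`, is `D`. -/
theorem unique_class2 {G : Type*} [Group G] {D D' : Set G} (e : G ≃* G2) (hD : ∀ a, a ∈ D ↔ e a ∈ D2)
    (h : IsThreeTranspositionClass D') : D' = D := by
  obtain ⟨⟨ho, hp⟩, ⟨d, hd, rfl⟩, -⟩ := h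
  have hmem : ∀ x : G, x ∈ conjugatesOf d ↔ IsConj d x := fun _ => Iff.rfl
  have hord := ho d hd
  obtain ⟨m, h1, h4, hm⟩ := invol_all2 (x := e d) (by rw [MulEquiv.orderOf_eq, hord])
  by_cases hm1 : m = 1
  · subst hm1
    have hed : e d ∈ D2 := PM1_elim2 hm
    ext x
    rw [hmem, hD]
    constructor
    · intro hc
      obtain ⟨g, hg⟩ := isConj_iff.1 hc
      rw [← hg, map_mul, map_mul, map_inv]
      exact D2_conj _ _ hed
    · intro hx
      obtain ⟨g, hg⟩ := conj_trans2 _ hed _ hx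
      refine isConj_iff.2 ⟨e.symm g, ?_⟩
      apply e.injective
      rw [map_mul, map_mul, map_inv, MulEquiv.apply_symm_apply, hg]
  · exfalso
    obtain ⟨x, y, hx, hy, hxy⟩ := exists_far (m := m) (by omega) h4
    obtain ⟨g, hg⟩ := PM_conj_rep2 h1 h4 hm
    have hconj : ∀ z, PM D2 m z → e.symm z ∈ conjugatesOf d := by
      intro z hz
      obtain ⟨g', hg'⟩ := PM_conj_rep2 h1 h4 hz
      rw [hmem]
      refine isConj_iff.2 ⟨e.symm (g'⁻¹ * g), ?_⟩
      apply e.injective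
      rw [map_mul, map_mul, map_inv, MulEquiv.apply_symm_apply, MulEquiv.apply_symm_apply]
      calc g'⁻¹ * g * e d * (g'⁻¹ * g)⁻¹ = g'⁻¹ * (g * e d * g⁻¹) * g' := by group
        _ = g'⁻¹ * (g' * z * g'⁻¹) * g' := by rw [hg, hg']
        _ = z := by group
    have h6 : ((e.symm x) * (e.symm y)) ^ 6 = 1 := by
      rcases hp _ (hconj x hx) _ (hconj y hy) with k | k
      · rw [show (6 : ℕ) = 2 * 3 from rfl, pow_mul, k, one_pow]
      · rw [show (6 : ℕ) = 3 * 2 from rfl, pow_mul, k, one_pow]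
    apply hxy
    have h7 := congrArg e h6
    rw [map_pow, map_mul, MulEquiv.apply_symm_apply, MulEquiv.apply_symm_apply, map_one] at h7
    exact h7

end Cfsg.Agent.Lib.Fischer.M24.InvolAll
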